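import Groth.Agent.AlgSt.K750.Twist
import Groth.Agent.AlgSt.K750.QuotEff
import Groth.Agent.AlgSt.K744.QuotFib
import Groth.Agent.Stk.K751.FF
import Groth.Prelude.Def_ChGrp

/-!
# Change of group for quotient stacks: `[Z/H] ≃ [G ×^H Z / G]` (helper824)

For a balanced product `j : G ⊗ Z ⟶ Y` the functor `Φ : [Y/G] ⥤ᵇ [Z/H]`, `(R, ψ) ↦ R ×_Y Z`, is an equivalence.
-/

set_option autoImplicit false
set_option backward.isDefEq.respectTransparency false
set_option backward.isDefEq.respectTransparency.types false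

universe u

open CategoryTheory CategoryTheory.Limits MonoidalCategory CartesianMonoidalCategory MonObj GrpObj AlgebraicGeometry
open AlgSt K750.TorsPts K750.Cone K750.Twist

namespace K824.BalProd

variable {S : Scheme.{u}}

section Gen

variable {K : Precoverage Scheme.{u}}

/-- local triviality of a composite -/
theorem locTriv_comp [K.IsStableUnderBaseChange] [K.IsStableUnderComposition] {E P T : Over S} {q : E ⟶ P} {π : P ⟶ T}
    (hq : NonAbH1.IsLocallyTrivialFor K (Over.mk q.left : Over P.left))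
    (hπ : NonAbH1.IsLocallyTrivialFor K (Over.mk π.left : Over T.left)) :
    NonAbH1.IsLocallyTrivialFor K (Over.mk (q ≫ π).left : Over T.left) := by
  obtain ⟨R, hR, hs⟩ := hπ
  have hs' : ∀ i : R.category, ∃ s : i.obj.left ⟶ P.left, s ≫ π.left = i.obj.hom := fun i => hs i.obj.hom i.property
  choose s hs' using hs'
  have h1 : ∀ i : R.category, ∃ Q : Presieve i.obj.left, Q ∈ K.coverings i.obj.left ∧
      ∀ ⦃V : Scheme.{u}⦄ (f : V ⟶ i.obj.left), Q f → ∃ t : V ⟶ E.left, t ≫ q.left = f ≫ s i := by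
    intro i
    obtain ⟨Q, hQ, ht⟩ := hq
    refine ⟨Q.pullbackArrows (s i), K.pullbackArrows_mem (s i) hQ, ?_⟩
    rintro V f ⟨W, q', hq'⟩
    obtain ⟨t, ht'⟩ := ht q' hq'
    have ht'' : t ≫ q.left = q' := ht'
    refine ⟨pullback.fst q' (s i) ≫ t, ?_⟩
    rw [Category.assoc, ht'', pullback.condition]
  choose Q hQ hsec using h1
  rw [← Presieve.ofArrows_category R] at hR
  have hc := K.comp_mem_coverings (S := T.left) (X := fun i : R.category => i.obj.left) (fun i => i.obj.hom) hR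
    (σ := fun i => (Q i).category) (Y := fun i j => j.obj.left) (fun i j => j.obj.hom)
    (fun i => by
      have := hQ i
      rw [← Presieve.ofArrows_category (Q i)] at this
      exact this)
  refine ⟨_, hc, ?_⟩
  rintro V f ⟨⟨i, j⟩⟩
  obtain ⟨t, ht⟩ := hsec i j.obj.hom j.property
  refine ⟨t, ?_⟩
  change t ≫ (q ≫ π).left = j.obj.hom ≫ i.obj.hom
  rw [Over.comp_left, ← Category.assoc, ht, Category.assoc, hs']

theorem locTriv_of_comp {E P T : Over S} {q : E ⟶ P} {π : P ⟶ T}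
    (h : NonAbH1.IsLocallyTrivialFor K (Over.mk (q ≫ π).left : Over T.left)) :
    NonAbH1.IsLocallyTrivialFor K (Over.mk π.left : Over T.left) := by
  obtain ⟨R, hR, hs⟩ := h
  refine ⟨R, hR, fun V f hf => ?_⟩
  obtain ⟨s, hs⟩ := hs f hf
  have hs' : s ≫ (q ≫ π).left = f := hs
  refine ⟨s ≫ q.left, ?_⟩
  change (s ≫ q.left) ≫ π.left = f
  rw [Category.assoc, ← Over.comp_left, hs']

/-- a cartesian square from points -/
theorem isPullback_of_pts {A B C D : Over S} {f : A ⟶ B} {g : A ⟶ C} {h : B ⟶ D} {k : C ⟶ D} (w : f ≫ h = g ≫ k)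
    (hex : ∀ {T : Over S} (b : T ⟶ B) (c : T ⟶ C), b ≫ h = c ≫ k → ∃ a : T ⟶ A, a ≫ f = b ∧ a ≫ g = c)
    (huniq : ∀ {T : Over S} (a a' : T ⟶ A), a ≫ f = a' ≫ f → a ≫ g = a' ≫ g → a = a') : IsPullback f g h k := by
  refine ⟨⟨w⟩, ⟨PullbackCone.IsLimit.mk w (fun s => (hex s.fst s.snd s.condition).choose) (fun s => ?_)
    (fun s => ?_) (fun s a e1 e2 => ?_)⟩⟩
  · exact (hex s.fst s.snd s.condition).choose_spec.1
  · exact (hex s.fst s.snd s.condition).choose_spec.2
  · apply huniq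
    · rw [e1]
      exact (hex s.fst s.snd s.condition).choose_spec.1.symm
    · rw [e2]
      exact (hex s.fst s.snd s.condition).choose_spec.2.symm

variable {J : GrothendieckTopology (Over S)} [J.Subcanonical]

/-- descent of morphisms along a locally split morphism -/
theorem exists_desc {E P W : Over S} (q : E ⟶ P) (hq : sv q ∈ J P) (m : E ⟶ W)
    (hm : ∀ {T : Over S} (a b : T ⟶ E), a ≫ q = b ≫ q → a ≫ m = b ≫ m) : ∃ n : P ⟶ W, q ≫ n = m := by
  have hch : ∀ {T : Over S} (t : T ⟶ P), sv q (t ≫ 𝟙 P) → ∃ s : T ⟶ E, s ≫ q = t := by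
    rintro T t ⟨s, hs⟩
    exact ⟨s, by rw [hs, Category.comp_id]⟩
  obtain ⟨n, hn, -⟩ := existsUnique_over (J := J) (Z := W) (𝟙 P) hq (fun {T} t ht => (hch t ht).choose ≫ m) (by
    intro T T' s t ht hst
    rw [← Category.assoc]
    apply hm
    rw [(hch (s ≫ t) hst).choose_spec, Category.assoc, (hch t ht).choose_spec])
  refine ⟨n, ?_⟩
  have h1 : sv q (q ≫ 𝟙 P) := ⟨𝟙 E, by simp⟩
  rw [hn q h1]
  have := hm (hch q h1).choose (𝟙 E) (by rw [(hch q h1).choose_spec, Category.id_comp])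
  rw [this, Category.id_comp]

theorem desc_ext {E P W : Over S} (q : E ⟶ P) (hq : sv q ∈ J P) {a b : P ⟶ W} (h : q ≫ a = q ≫ b) : a = b := by
  apply ext_over (J := J) (𝟙 P) hq
  rintro T t ⟨s, hs⟩
  rw [Category.comp_id] at hs
  rw [← hs, Category.assoc, h, Category.assoc]

end Gen

section Cart

variable {K : Precoverage Scheme.{u}} {G : Over S} [GrpObj G] {X : Over S} {aX : AlgGrp.Action G X}

/-- an equivariant morphism of torsors is cartesian -/
theorem cart_of_eqv [(QuotSh.J K S).Subcanonical] {P P' B B' : Over S} {a : AlgGrp.Action G P} {a' : AlgGrp.Action G P'}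
    {π : P ⟶ B} {π' : P' ⟶ B'} (hc : IsPullback a.act (snd G P) π π) (hc' : IsPullback a'.act (snd G P') π' π')
    (hl : NonAbH1.IsLocallyTrivialFor K (Over.mk π.left : Over B.left)) {t : P ⟶ P'} {f : B ⟶ B'}
    (ht : a.act ≫ t = (G ◁ t) ≫ a'.act) (hw : t ≫ π' = π ≫ f) : IsPullback t π π' f := by
  have huniq : ∀ {T : Over S} (p p' : T ⟶ P), p ≫ t = p' ≫ t → p ≫ π = p' ≫ π → p = p' := by
    intro T p p' e1 e2
    have h1 := act_dif a hc p p' e2.symm
    have h2 := act_eqv a a' t ht (dif a hc p p' e2.symm) p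
    rw [h1, ← e1] at h2
    have h3 : dif a hc p p' e2.symm = 1 := by
      apply act_left_cancel a' hc' (p ≫ t)
      rw [← h2, act_one]
    rw [← h1, h3, act_one]
  refine isPullback_of_pts hw (fun {T} b c e => ?_) huniq
  have key : ∀ {V : Over S} (s : V ⟶ T), sv π (s ≫ c) → ∃ p : V ⟶ P, p ≫ t = s ≫ b ∧ p ≫ π = s ≫ c := by
    rintro V s ⟨p₀, h₀⟩
    have h1 : (s ≫ b) ≫ π' = (p₀ ≫ t) ≫ π' := by
      rw [Category.assoc, Category.assoc, hw, e, reassoc_of% h₀]
    refine ⟨act a (dif a' hc' (p₀ ≫ t) (s ≫ b) h1) p₀, ?_, ?_⟩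
    · rw [act_eqv a a' t ht, act_dif]
    · rw [act_comp_π a hc, h₀]
  obtain ⟨n, hn, -⟩ := existsUnique_over (J := QuotSh.J K S) (Z := P) c (sv_mem hl)
    (fun {V} s hs => (key s hs).choose) (by
      intro V V' s' s hs hss
      apply huniq
      · rw [(key (s' ≫ s) hss).choose_spec.1, Category.assoc, Category.assoc, (key s hs).choose_spec.1]
      · rw [(key (s' ≫ s) hss).choose_spec.2, Category.assoc, Category.assoc, (key s hs).choose_spec.2])
  refine ⟨n, ?_, ?_⟩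
  · apply ext_over (J := QuotSh.J K S) c (sv_mem hl)
    intro V s hs
    rw [← Category.assoc, hn s hs, (key s hs).choose_spec.1]
  · apply ext_over (J := QuotSh.J K S) c (sv_mem hl)
    intro V s hs
    rw [← Category.assoc, hn s hs, (key s hs).choose_spec.2]

end Cart

section Phi

variable {K : Precoverage Scheme.{u}} {G H Z Y : Over S} [GrpObj G] [GrpObj H] {i : H ⟶ G} [IsMonHom i]
  {aZ : AlgGrp.Action H Z} {aY : AlgGrp.Action G Y} {j : G ⊗ Z ⟶ Y}

/-- `j` on points -/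
noncomputable def jj (j : G ⊗ Z ⟶ Y) {T : Over S} (g : T ⟶ G) (z : T ⟶ Z) : T ⟶ Y := lift g z ≫ j

omit [GrpObj G] in
theorem comp_jj {T T' : Over S} (t : T' ⟶ T) (g : T ⟶ G) (z : T ⟶ Z) : t ≫ jj j g z = jj j (t ≫ g) (t ≫ z) := by
  rw [jj, jj, ← Category.assoc, comp_lift]

section BP

variable (hY : ChGrp.IsBalProd K i aZ aY j) {T : Over S}

include hY

theorem act_jj (g g' : T ⟶ G) (z : T ⟶ Z) : act aY g (jj j g' z) = jj j (g * g') z := by
  have h1 := hY.1
  have h2 := act_eqv ((NonAbH1.trivialAction G).prod (AlgGrp.Action.trivial G Z)) aY j h1 g (lift g' z)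
  rw [jj, ← h2, jj, act, AlgGrp.Action.lift_prod_act, AlgGrp.Action.lift_trivial_act]
  rfl

theorem jj_inv (h : T ⟶ H) (g : T ⟶ G) (z : T ⟶ Z) : jj j (g * (h ≫ i)⁻¹) (act aZ h z) = jj j g z := by
  have h1 := act_comp_π (ChGrp.twist i aZ) hY.2.1 h (lift g z)
  rw [act, ChGrp.lift_twist_act] at h1
  exact h1

theorem exists_of_jj_eq (g g' : T ⟶ G) (z z' : T ⟶ Z) (e : jj j g z = jj j g' z') :
    ∃ h : T ⟶ H, g' = g * (h ≫ i)⁻¹ ∧ z' = act aZ h z := by
  obtain ⟨h, hh, -⟩ := existsUnique_act (ChGrp.twist i aZ) hY.2.1 (lift g z) (lift g' z') e.symm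
  rw [act, ChGrp.lift_twist_act] at hh
  refine ⟨h, ?_, ?_⟩
  · have := congrArg (fun x => x ≫ fst G Z) hh
    simp only [lift_fst] at this
    exact this.symm
  · have := congrArg (fun x => x ≫ snd G Z) hh
    simp only [lift_snd] at this
    exact this.symm

theorem H_cancel (h h' : T ⟶ H) (z : T ⟶ Z) (e1 : h ≫ i = h' ≫ i) (e2 : act aZ h z = act aZ h' z) : h = h' := by
  apply act_left_cancel (ChGrp.twist i aZ) hY.2.1 (lift (1 : T ⟶ G) z)
  rw [act, act, ChGrp.lift_twist_act, ChGrp.lift_twist_act, e1]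
  congr 1

end BP

/-- the map `Z ⟶ Y`, `z ↦ j(1, z)` -/
noncomputable def y0 (j : G ⊗ Z ⟶ Y) : Z ⟶ Y := jj j 1 (𝟙 Z)

theorem comp_y0 {T : Over S} (z : T ⟶ Z) : z ≫ y0 j = jj j 1 z := by
  rw [y0, comp_jj, comp_one, Category.comp_id]

variable (j) in
/-- `R ×_Y Z` -/
noncomputable abbrev PP (B : QuotObj K G aY) : Over S := pullback B.φ (y0 j)

variable (B : QuotObj K G aY)

noncomputable abbrev p1 : PP j B ⟶ B.P := pullback.fst _ _
noncomputable abbrev p2 : PP j B ⟶ Z := pullback.snd _ _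

theorem p1_φ {T : Over S} (p : T ⟶ PP j B) : (p ≫ p1 B) ≫ B.φ = jj j 1 (p ≫ p2 B) := by
  rw [Category.assoc, pullback.condition, ← Category.assoc, comp_y0]

/-- a point of `R ×_Y Z` -/
noncomputable def mkP {T : Over S} (r : T ⟶ B.P) (z : T ⟶ Z) (h : r ≫ B.φ = jj j 1 z) : T ⟶ PP j B :=
  pullback.lift r z (by rw [h, comp_y0])

@[simp] theorem mkP_p1 {T : Over S} (r : T ⟶ B.P) (z : T ⟶ Z) (h : r ≫ B.φ = jj j 1 z) : mkP B r z h ≫ p1 B = r :=
  pullback.lift_fst _ _ _

@[simp] theorem mkP_p2 {T : Over S} (r : T ⟶ B.P) (z : T ⟶ Z) (h : r ≫ B.φ = jj j 1 z) : mkP B r z h ≫ p2 B = z :=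
  pullback.lift_snd _ _ _

theorem P_ext {T : Over S} {p p' : T ⟶ PP j B} (h1 : p ≫ p1 B = p' ≫ p1 B) (h2 : p ≫ p2 B = p' ≫ p2 B) : p = p' :=
  pullback.hom_ext h1 h2

theorem comp_mkP {T T' : Over S} (t : T' ⟶ T) (r : T ⟶ B.P) (z : T ⟶ Z) (h : r ≫ B.φ = jj j 1 z) :
    t ≫ mkP B r z h = mkP B (t ≫ r) (t ≫ z) (by rw [Category.assoc, h, comp_jj, comp_one]) := by
  apply P_ext
  · simp only [Category.assoc, mkP_p1]
  · simp only [Category.assoc, mkP_p2]

variable (hY : ChGrp.IsBalProd K i aZ aY j)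

include hY in
theorem act_cond {T : Over S} (h : T ⟶ H) (r : T ⟶ B.P) (z : T ⟶ Z) (e : r ≫ B.φ = jj j 1 z) :
    act B.act (h ≫ i) r ≫ B.φ = jj j 1 (act aZ h z) := by
  rw [act_eqv B.act aY B.φ B.eqv, e, act_jj hY, _root_.mul_one, ← jj_inv hY h (h ≫ i) z, mul_inv_cancel]

/-- the action of `H` on `R ×_Y Z` -/
noncomputable def actP : AlgGrp.Action H (PP j B) where
  act := mkP B (act B.act (fst H (PP j B) ≫ i) (snd H (PP j B) ≫ p1 B)) (act aZ (fst H (PP j B)) (snd H (PP j B) ≫ p2 B))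
    (act_cond B hY _ _ _ (p1_φ B _))
  one_act := by
    apply K750.QuotEff.one_act_of_pts
    intro T q
    rw [comp_mkP]
    apply P_ext
    · rw [mkP_p1, comp_act, lift_fst_assoc, lift_snd_assoc, MonObj.one_comp, act_one]
    · rw [mkP_p2, comp_act, lift_fst, lift_snd_assoc, act_one]
  mul_act := by
    apply K750.QuotEff.mul_act_of_pts
    intro T g g' q
    rw [comp_mkP, comp_mkP, comp_mkP]
    apply P_ext
    · rw [mkP_p1, mkP_p1, comp_act, comp_act, lift_fst_assoc, lift_snd_assoc, lift_fst_assoc, lift_snd_assoc, mkP_p1, comp_act,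
        lift_fst_assoc, lift_snd_assoc, MonObj.mul_comp, act_mul]
    · rw [mkP_p2, mkP_p2, comp_act, comp_act, lift_fst, lift_snd_assoc, lift_fst, lift_snd_assoc, mkP_p2, comp_act,
        lift_fst, lift_snd_assoc, act_mul]

theorem act_actP {T : Over S} (h : T ⟶ H) (p : T ⟶ PP j B) :
    act (actP B hY) h p = mkP B (act B.act (h ≫ i) (p ≫ p1 B)) (act aZ h (p ≫ p2 B)) (act_cond B hY _ _ _ (p1_φ B _)) := by
  rw [act, actP, comp_mkP]
  apply P_ext
  · rw [mkP_p1, mkP_p1, comp_act, lift_fst_assoc, lift_snd_assoc]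
  · rw [mkP_p2, mkP_p2, comp_act, lift_fst, lift_snd_assoc]

@[simp] theorem act_actP_p1 {T : Over S} (h : T ⟶ H) (p : T ⟶ PP j B) :
    act (actP B hY) h p ≫ p1 B = act B.act (h ≫ i) (p ≫ p1 B) := by rw [act_actP, mkP_p1]

@[simp] theorem act_actP_p2 {T : Over S} (h : T ⟶ H) (p : T ⟶ PP j B) :
    act (actP B hY) h p ≫ p2 B = act aZ h (p ≫ p2 B) := by rw [act_actP, mkP_p2]

theorem actP_cart : IsPullback (actP B hY).act (snd H (PP j B)) (p1 B ≫ B.π) (p1 B ≫ B.π) := by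
  have hpt : ∀ {T : Over S} (a : T ⟶ H ⊗ PP j B), a ≫ (actP B hY).act = act (actP B hY) (a ≫ fst _ _) (a ≫ snd _ _) := by
    intro T a
    rw [act]
    congr 1
    rw [← comp_lift, lift_fst_snd, Category.comp_id]
  refine isPullback_of_pts ?_ (fun {T} b c e => ?_) (fun {T} a a' e1 e2 => ?_)
  · have h1 := hpt (𝟙 _)
    rw [Category.id_comp, Category.id_comp, Category.id_comp] at h1
    rw [h1, ← Category.assoc, act_actP_p1, act_comp_π B.act B.cart, Category.assoc]
  · rw [← Category.assoc, ← Category.assoc] at e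
    have h1 := act_dif B.act B.cart (c ≫ p1 B) (b ≫ p1 B) e
    set g := dif B.act B.cart (c ≫ p1 B) (b ≫ p1 B) e with hg
    have h2 : jj j g (c ≫ p2 B) = jj j 1 (b ≫ p2 B) := by
      rw [← p1_φ B b, ← h1, act_eqv B.act aY B.φ B.eqv, p1_φ B c, act_jj hY, _root_.mul_one]
    obtain ⟨h, e1, e2⟩ := exists_of_jj_eq hY _ _ _ _ h2
    have e3 : g = h ≫ i := (mul_inv_eq_one.1 e1.symm)
    refine ⟨lift h c, ?_, lift_snd _ _⟩
    rw [hpt, lift_fst, lift_snd]
    apply P_ext
    · rw [act_actP_p1, ← e3, h1]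
    · rw [act_actP_p2, e2]
  · rw [hpt, hpt, ← e2] at e1
    apply CartesianMonoidalCategory.hom_ext _ _ _ e2
    have e3 := congrArg (fun x => x ≫ p1 B) e1
    have e4 := congrArg (fun x => x ≫ p2 B) e1
    simp only [act_actP_p1, act_actP_p2] at e3 e4
    exact H_cancel hY _ _ _ (act_left_cancel B.act B.cart _ e3) e4

/-- `(g, p) ↦ g • p₁ p` -/
noncomputable def qq : G ⊗ PP j B ⟶ B.P := act B.act (fst G (PP j B)) (snd G (PP j B) ≫ p1 B)

theorem comp_qq {T : Over S} (a : T ⟶ G ⊗ PP j B) : a ≫ qq B = act B.act (a ≫ fst _ _) ((a ≫ snd _ _) ≫ p1 B) := by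
  rw [qq, comp_act, Category.assoc]

theorem lift_qq {T : Over S} (g : T ⟶ G) (p : T ⟶ PP j B) : lift g p ≫ qq B = act B.act g (p ≫ p1 B) := by
  rw [comp_qq, lift_fst, lift_snd]

include hY in
theorem qq_cart : IsPullback (G ◁ p2 (j := j) B) (qq B) j B.φ := by
  have hpt : ∀ {T : Over S} (a : T ⟶ G ⊗ PP j B), a ≫ (G ◁ p2 B) = lift (a ≫ fst _ _) ((a ≫ snd _ _) ≫ p2 B) := by
    intro T a
    apply CartesianMonoidalCategory.hom_ext
    · rw [Category.assoc, whiskerLeft_fst, lift_fst]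
    · rw [Category.assoc, whiskerLeft_snd, lift_snd, Category.assoc]
  refine isPullback_of_pts ?_ (fun {T} b c e => ?_) (fun {T} a a' e1 e2 => ?_)
  · have h1 := hpt (𝟙 _)
    have h2 := comp_qq (j := j) B (𝟙 _)
    rw [Category.id_comp] at h1 h2
    rw [h1, h2, act_eqv B.act aY B.φ B.eqv, p1_φ, act_jj hY, _root_.mul_one, jj]
  · have hb : b = lift (b ≫ fst _ _) (b ≫ snd _ _) := by rw [← comp_lift, lift_fst_snd, Category.comp_id]
    have h1 : act B.act (b ≫ fst G Z)⁻¹ c ≫ B.φ = jj j 1 (b ≫ snd _ _) := by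
      have h2 : b ≫ j = jj j (b ≫ fst _ _) (b ≫ snd _ _) := by rw [jj, ← hb]
      rw [act_eqv B.act aY B.φ B.eqv, ← e, h2, act_jj hY, inv_mul_cancel]
    refine ⟨lift (b ≫ fst _ _) (mkP B (act B.act (b ≫ fst G Z)⁻¹ c) (b ≫ snd _ _) h1), ?_, ?_⟩
    · rw [hpt, lift_fst, lift_snd, mkP_p2, ← hb]
    · rw [lift_qq, mkP_p1, ← act_mul, mul_inv_cancel, act_one]
  · rw [hpt, hpt] at e1
    have e3 := congrArg (fun x => x ≫ fst _ _) e1
    have e4 := congrArg (fun x => x ≫ snd _ _) e1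
    simp only [lift_fst, lift_snd] at e3 e4
    apply CartesianMonoidalCategory.hom_ext _ _ e3
    refine P_ext B ?_ e4
    rw [comp_qq, comp_qq, ← e3] at e2
    have e5 := congrArg (fun x => act B.act (a ≫ fst _ _)⁻¹ x) e2
    simp only [← act_mul, inv_mul_cancel, act_one] at e5
    exact e5

include hY in
theorem sv_qq_mem [K.IsStableUnderBaseChange] : sv (qq B : G ⊗ PP j B ⟶ B.P) ∈ QuotSh.J K S B.P :=
  sv_mem (K744.QuotFib.isLocallyTrivialFor_of_isPullback (qq_cart B hY) hY.2.2)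

/-- the object `(R ×_Y Z ⟶ T, p₂)` of `[Z/H]` -/
noncomputable def Φobj [K.IsStableUnderBaseChange] [K.IsStableUnderComposition] : QuotObj K H aZ where
  base := B.base
  P := PP j B
  act := actP B hY
  π := p1 B ≫ B.π
  cart := actP_cart B hY
  loc := by
    have h1 := locTriv_comp (K744.QuotFib.isLocallyTrivialFor_of_isPullback (qq_cart B hY) hY.2.2) B.loc
    have h2 : qq B ≫ B.π = snd G (PP j B) ≫ (p1 B ≫ B.π) := by
      rw [qq, act_comp_π B.act B.cart, Category.assoc]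
    rw [h2] at h1
    exact locTriv_of_comp h1
  φ := p2 B
  eqv := by
    apply eqv_of_act
    intro T g p
    rw [act_actP_p2]

variable [K.HasIsos] [K.IsStableUnderBaseChange] [K.IsStableUnderComposition] [(QuotSh.J K S).Subcanonical]

variable {B} in
/-- the morphism of total spaces attached to a morphism of `[Y/G]` -/
noncomputable def tmap {A : QuotObj K G aY} (t : A ⟶ B) : PP j A ⟶ PP j B :=
  mkP B (p1 A ≫ t.top) (p2 A) (by
    have := p1_φ (j := j) A (𝟙 _)
    rw [Category.id_comp, Category.id_comp] at this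
    rw [Category.assoc, t.wφ, this])

omit [GrpObj H] [IsMonHom i] [K.HasIsos] [K.IsStableUnderBaseChange] [K.IsStableUnderComposition]
  [(QuotSh.J K S).Subcanonical] in
variable {B} in
@[reassoc]
theorem tmap_p1 {A : QuotObj K G aY} (t : A ⟶ B) : tmap (j := j) t ≫ p1 B = p1 A ≫ t.top := mkP_p1 _ _ _ _

omit [GrpObj H] [IsMonHom i] [K.HasIsos] [K.IsStableUnderBaseChange] [K.IsStableUnderComposition]
  [(QuotSh.J K S).Subcanonical] in
variable {B} in
@[reassoc]
theorem tmap_p2 {A : QuotObj K G aY} (t : A ⟶ B) : tmap (j := j) t ≫ p2 B = p2 A := mkP_p2 _ _ _ _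

omit [K.HasIsos] [K.IsStableUnderBaseChange] [K.IsStableUnderComposition] [(QuotSh.J K S).Subcanonical] in
variable {B} in
theorem tmap_eqv {A : QuotObj K G aY} (t : A ⟶ B) : (actP A hY).act ≫ tmap t = (H ◁ tmap t) ≫ (actP B hY).act := by
  apply eqv_of_act
  intro T g p
  apply P_ext
  · rw [Category.assoc, tmap_p1, act_actP_p1, ← Category.assoc, act_actP_p1, act_eqv A.act B.act t.top t.eqv,
      Category.assoc, Category.assoc, tmap_p1]
  · rw [Category.assoc, tmap_p2, act_actP_p2, act_actP_p2, Category.assoc, tmap_p2]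

variable {B} in
/-- the morphism of `[Z/H]` attached to a morphism of `[Y/G]` -/
noncomputable def Φmap {A : QuotObj K G aY} (t : A ⟶ B) : Φobj A hY ⟶ Φobj B hY where
  base := t.base
  top := tmap t
  eqv := tmap_eqv hY t
  cart := cart_of_eqv (actP_cart A hY) (actP_cart B hY) (Φobj A hY).loc (tmap_eqv hY t) (by
      rw [tmap_p1_assoc, t.cart.w, Category.assoc])
  wφ := tmap_p2 t

omit [K.HasIsos] in
variable {B} in
theorem Φmap_top {A : QuotObj K G aY} (t : A ⟶ B) : (Φmap hY t).top = tmap t := rfl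

omit [K.HasIsos] in
variable {B} in
theorem Φmap_base {A : QuotObj K G aY} (t : A ⟶ B) : (Φmap hY t).base = t.base := rfl

/-- the functor `[Y/G] ⥤ᵇ [Z/H]`, `(R, ψ) ↦ R ×_Y Z` -/
noncomputable def Φ : QuotSt K G aY ⥤ᵇ QuotSt K H aZ where
  toFunctor :=
    { obj := fun B => Φobj B hY
      map := fun t => Φmap hY t
      map_id := fun A => by
        refine QuotObj.hom_ext (f := Φmap hY (𝟙 A)) (g := 𝟙 (Φobj A hY)) rfl ?_
        change tmap (𝟙 A) = 𝟙 (PP j A)
        apply P_ext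
        · rw [tmap_p1]
          exact (Category.comp_id _).trans (Category.id_comp _).symm
        · exact (tmap_p2 (𝟙 A)).trans (Category.id_comp _).symm
      map_comp := fun {A B C} f g => by
        refine QuotObj.hom_ext (f := Φmap hY (f ≫ g)) (g := Φmap hY f ≫ Φmap hY g) rfl ?_
        change tmap (f ≫ g) = tmap f ≫ tmap g
        apply P_ext
        · rw [tmap_p1, Category.assoc, tmap_p1, tmap_p1_assoc]
          rfl
        · rw [tmap_p2, Category.assoc, tmap_p2, tmap_p2] }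
  w := rfl

omit [K.HasIsos] in
theorem faithful_Φ : (Φ hY : QuotSt K G aY ⥤ᵇ QuotSt K H aZ).toFunctor.Faithful where
  map_injective {A B t t'} e := by
    have e' : Φmap hY t = Φmap hY t' := e
    have hb : t.base = t'.base := by rw [← Φmap_base hY t, e', Φmap_base]
    refine QuotObj.hom_ext (f := t) (g := t') hb ?_
    apply desc_ext (J := QuotSh.J K S) (qq A) (sv_qq_mem A hY)
    have h1 : p1 (j := j) A ≫ t.top = p1 A ≫ t'.top := by
      rw [← tmap_p1, ← tmap_p1, ← Φmap_top hY, ← Φmap_top hY, e']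
    rw [qq, act_eqv A.act B.act t.top t.eqv, act_eqv A.act B.act t'.top t'.eqv, Category.assoc, Category.assoc, h1]

omit [K.HasIsos] in
theorem full_Φ : (Φ hY : QuotSt K G aY ⥤ᵇ QuotSt K H aZ).toFunctor.Full where
  map_surjective {A B} m := by
    change Φobj A hY ⟶ Φobj B hY at m
    let mt : PP j A ⟶ PP j B := m.top
    have hm2 : mt ≫ p2 B = p2 A := m.wφ
    have hmπ : mt ≫ p1 B ≫ B.π = (p1 A ≫ A.π) ≫ m.base := m.cart.w
    have hmact : ∀ {T : Over S} (h : T ⟶ H) (p : T ⟶ PP j A), act (actP A hY) h p ≫ mt = act (actP B hY) h (p ≫ mt) :=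
      fun h p => act_eqv (actP A hY) (actP B hY) mt m.eqv h p
    obtain ⟨n, hn⟩ := exists_desc (J := QuotSh.J K S) (qq A) (sv_qq_mem A hY)
      (act B.act (fst G (PP j A)) (snd G (PP j A) ≫ mt ≫ p1 B)) (by
        intro T a b e
        rw [comp_qq, comp_qq] at e
        rw [comp_act, comp_act]
        -- abbreviations
        obtain ⟨g, hg⟩ : ∃ g : T ⟶ G, g = a ≫ fst _ _ := ⟨_, rfl⟩
        obtain ⟨g', hg'⟩ : ∃ g : T ⟶ G, g = b ≫ fst _ _ := ⟨_, rfl⟩
        obtain ⟨p, hp⟩ : ∃ g : T ⟶ PP j A, g = a ≫ snd _ _ := ⟨_, rfl⟩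
        obtain ⟨p', hp'⟩ : ∃ g : T ⟶ PP j A, g = b ≫ snd _ _ := ⟨_, rfl⟩
        rw [← hg, ← hg', ← hp, ← hp'] at e
        rw [reassoc_of% hp.symm, reassoc_of% hp'.symm, ← hg, ← hg']
        -- `p' = h p` with `i h = g'⁻¹ g`
        have e1 : p' ≫ p1 A = act A.act (g'⁻¹ * g) (p ≫ p1 A) := by
          rw [act_mul, e, ← act_mul, inv_mul_cancel, act_one]
        have e2 : jj j (g'⁻¹ * g) (p ≫ p2 A) = jj j 1 (p' ≫ p2 A) := by
          rw [← p1_φ A p', e1, act_eqv A.act aY A.φ A.eqv, p1_φ A p, act_jj hY, _root_.mul_one]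
        obtain ⟨h, e3, e4⟩ := exists_of_jj_eq hY _ _ _ _ e2
        have e5 : g'⁻¹ * g = h ≫ i := mul_inv_eq_one.1 e3.symm
        have e6 : p' = act (actP A hY) h p := by
          apply P_ext
          · rw [act_actP_p1, ← e5, e1]
          · rw [act_actP_p2, e4]
        have e7 : p' ≫ mt ≫ p1 B = act B.act (g'⁻¹ * g) (p ≫ mt ≫ p1 B) := by
          rw [e6, ← Category.assoc, hmact, act_actP_p1, ← e5, Category.assoc]
        rw [e7, ← act_mul, mul_inv_cancel_left])
    have hn' : ∀ {T : Over S} (g : T ⟶ G) (p : T ⟶ PP j A), act A.act g (p ≫ p1 A) ≫ n = act B.act g (p ≫ mt ≫ p1 B) := by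
      intro T g p
      rw [← lift_qq, Category.assoc, hn, comp_act, lift_fst, lift_snd_assoc]
    have hp1n : p1 A ≫ n = mt ≫ p1 B := by
      have := hn' (1 : PP j A ⟶ G) (𝟙 _)
      rwa [act_one, act_one, Category.id_comp, Category.id_comp] at this
    have hnπ : n ≫ B.π = A.π ≫ m.base := by
      apply desc_ext (J := QuotSh.J K S) (qq A) (sv_qq_mem A hY)
      rw [← Category.assoc, hn, act_comp_π B.act B.cart, qq, ← Category.assoc (act _ _ _), act_comp_π A.act A.cart]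
      simp only [Category.assoc]
      rw [hmπ]
      simp only [Category.assoc]
    have hnφ : n ≫ B.φ = A.φ := by
      apply desc_ext (J := QuotSh.J K S) (qq A) (sv_qq_mem A hY)
      rw [← Category.assoc, hn, act_eqv B.act aY B.φ B.eqv, qq, act_eqv A.act aY A.φ A.eqv, p1_φ]
      congr 1
      have := p1_φ B (snd G (PP j A) ≫ mt)
      rw [Category.assoc, Category.assoc, Category.assoc, hm2] at this
      rw [← this]
      simp only [Category.assoc]
    have hneqv : A.act.act ≫ n = (G ◁ n) ≫ B.act.act := by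
      apply eqv_of_act
      intro T g r
      apply ext_over (J := QuotSh.J K S) r (sv_qq_mem A hY)
      rintro V t ⟨s, hs⟩
      have hs' : t ≫ r = act A.act (s ≫ fst _ _) ((s ≫ snd _ _) ≫ p1 A) := by rw [← hs, comp_qq]
      rw [← Category.assoc, comp_act, comp_act, ← Category.assoc, hs', hn', ← act_mul, hn', act_mul]
    let t : A ⟶ B :=
      { base := m.base
        top := n
        eqv := hneqv
        cart := cart_of_eqv A.cart B.cart A.loc hneqv hnπ
        wφ := hnφ }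
    refine ⟨t, ?_⟩
    refine QuotObj.hom_ext (f := Φmap hY t) (g := m) rfl ?_
    change tmap t = mt
    apply P_ext
    · rw [tmap_p1]
      exact hp1n
    · rw [tmap_p2, hm2]

theorem locEssSurj_Φ : K751.FF.LocEssSurj (QuotSh.J K S) (Φ hY : QuotSt K G aY ⥤ᵇ QuotSt K H aZ) := by
  intro D
  refine ⟨sv D.π, sv_mem D.loc, ?_⟩
  rintro V f ⟨s, hs⟩
  let a : (ofSch Y).obj := ⟨V, ⟨jj j 1 (s ≫ D.φ)⟩⟩
  let A : QuotObj K G aY := (quotMap K G aY).obj a
  have hφA : A.φ = (G ◁ jj j 1 (s ≫ D.φ)) ≫ aY.act := rfl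
  have h1 : (lift (1 : V ⟶ G) (𝟙 V) : V ⟶ A.P) ≫ A.φ = jj j 1 (s ≫ D.φ) := by
    rw [hφA, lift_whiskerLeft_assoc, Category.id_comp]
    exact act_one aY _
  let σ : V ⟶ PP j A := mkP A (lift (1 : V ⟶ G) (𝟙 V)) (s ≫ D.φ) h1
  obtain ⟨h, hb, -⟩ := exists_hom_of_section (A := Φobj A hY) (B := D) f σ (by
    change σ ≫ p1 A ≫ A.π = 𝟙 V
    rw [← Category.assoc, mkP_p1]
    exact lift_snd _ _) s hs (by
    exact (mkP_p2 A _ _ h1).symm)
  refine ⟨A, h, ?_⟩
  exact K751.FG.isHomLift_of_map_eq (p := (QuotSt K H aZ).p) h hb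

end Phi

/-- **Change of group**: `[Z/H] ≃ [G ×^H Z / G]` -/
theorem isQuotientOf_of_isBalProd {K : Precoverage Scheme.{u}} [K.HasIsos] [K.IsStableUnderBaseChange]
    [K.IsStableUnderComposition] (hK : K ≤ Scheme.fpqcPrecoverage) {G H Z Y : Over S} [GrpObj G] [GrpObj H]
    {i : H ⟶ G} [IsMonHom i] [IsAffineHom G.hom]
    {aZ : AlgGrp.Action H Z} {aY : AlgGrp.Action G Y} {j : G ⊗ Z ⟶ Y} (hY : ChGrp.IsBalProd K i aZ aY j) :
    AlgSt.IsQuotientOf K H aZ (AlgSt.QuotSt K G aY) := by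
  have hsub : (QuotSh.J K S).Subcanonical := by
    have : K.toGrothendieck.Subcanonical := .of_le (Precoverage.toGrothendieck_mono hK)
    infer_instance
  have h1 := faithful_Φ hY
  have h2 := full_Φ hY
  have h3 := K751.FF.isEquivOver_of_locEssSurj (J := QuotSh.J K S) (K750.QuotEff.isStack_quotSt hK aY)
    (K750.QuotPre.isPrestack_quotSt K H aZ _) (Φ hY) (locEssSurj_Φ hY)
  exact K751.Inv.isEquivOver_symm h3

end K824.BalProd
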