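import Groth.Agent.QuotStk.K824.BalProd

/-!
# `G/H × X` is the balanced product `G ×^H X` for a `G`-scheme `X` (helper824)
-/

set_option autoImplicit false
set_option backward.isDefEq.respectTransparency false
set_option backward.isDefEq.respectTransparency.types false

universe u

open CategoryTheory CategoryTheory.Limits MonoidalCategory CartesianMonoidalCategory MonObj GrpObj AlgebraicGeometry
open AlgSt K750.TorsPts K824.BalProd

namespace K824.Homog

variable {S : Scheme.{u}} {K : Precoverage Scheme.{u}} {G H X Q : Over S} [GrpObj G] [GrpObj H] {i : H ⟶ G} [IsMonHom i]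
  {aQ : AlgGrp.Action G Q} {q₀ : 𝟙_ (Over S) ⟶ Q} (aX : AlgGrp.Action G X)

variable (aQ q₀) in
/-- `(g, x) ↦ (g q₀, g x)` -/
noncomputable def jm : G ⊗ X ⟶ Q ⊗ X :=
  lift (fst G X ≫ aQ.orbitMap q₀) (act aX (fst G X) (snd G X))

omit [GrpObj H] in
theorem lift_jm {T : Over S} (g : T ⟶ G) (x : T ⟶ X) :
    lift g x ≫ jm aQ q₀ aX = lift (g ≫ aQ.orbitMap q₀) (act aX g x) := by
  rw [jm, comp_lift, lift_fst_assoc, comp_act, lift_fst, lift_snd]

theorem act_orb {T : Over S} (g g' : T ⟶ G) : act aQ g (g' ≫ aQ.orbitMap q₀) = (g * g') ≫ aQ.orbitMap q₀ := by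
  rw [AlgGrp.Action.comp_orbitMap, AlgGrp.Action.comp_orbitMap, act, ← AlgGrp.Action.lift_mul_act]

section Homog

variable (hQ : ChGrp.IsHomog K i aQ q₀) {T : Over S}

include hQ

omit [IsMonHom i] in
theorem orb_inv (g : T ⟶ G) (h : T ⟶ H) : (g * (h ≫ i)) ≫ aQ.orbitMap q₀ = g ≫ aQ.orbitMap q₀ := by
  have h1 := hQ.2.1.w
  have h2 := congrArg (fun x => lift g h ≫ x) h1
  simp only [lift_fst_assoc] at h2
  rw [h2, Category.assoc, lift_whiskerLeft_assoc, ← Category.assoc]
  rfl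

omit [IsMonHom i] in
theorem exists_h (a b : T ⟶ G) (e : a ≫ aQ.orbitMap q₀ = b ≫ aQ.orbitMap q₀) : ∃ h : T ⟶ H, b = a * (h ≫ i) := by
  obtain ⟨l, h1, h2⟩ : ∃ l : T ⟶ G ⊗ H, l ≫ fst G H = a ∧ l ≫ (G ◁ i) ≫ μ[G] = b :=
    ⟨hQ.2.1.lift a b e, hQ.2.1.lift_fst a b e, hQ.2.1.lift_snd a b e⟩
  refine ⟨l ≫ snd _ _, ?_⟩
  rw [← h1, ← h2, Hom.mul_def, ← Category.assoc]
  congr 1
  apply CartesianMonoidalCategory.hom_ext
  · rw [Category.assoc, whiskerLeft_fst, lift_fst]
  · rw [Category.assoc, whiskerLeft_snd, lift_snd, Category.assoc]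

omit [IsMonHom i] in
theorem i_cancel (h h' : T ⟶ H) (e : h ≫ i = h' ≫ i) : h = h' := by
  have h1 : lift (1 : T ⟶ G) h = lift (1 : T ⟶ G) h' := by
    apply hQ.2.1.hom_ext
    · rw [lift_fst, lift_fst]
    · rw [lift_whiskerLeft_assoc, lift_whiskerLeft_assoc, e]
  have := congrArg (fun x => x ≫ snd G H) h1
  simpa using this

end Homog

theorem isBalProd [K.IsStableUnderBaseChange] (hQ : ChGrp.IsHomog K i aQ q₀) :
    ChGrp.IsBalProd K i (aX.restrict i) (aQ.prod aX) (jm aQ q₀ aX) := by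
  have hpt : ∀ {T A B : Over S} (b : T ⟶ A ⊗ B), b = lift (b ≫ fst _ _) (b ≫ snd _ _) := by
    intro T A B b
    rw [← comp_lift, lift_fst_snd, Category.comp_id]
  have htw : ∀ {T : Over S} (h : T ⟶ H) (g : T ⟶ G) (x : T ⟶ X), lift h (lift g x) ≫ (ChGrp.twist i (aX.restrict i)).act =
      lift (g * (h ≫ i)⁻¹) (act aX (h ≫ i) x) := by
    intro T h g x
    rw [ChGrp.lift_twist_act, AlgGrp.Action.lift_restrict_act]
    rfl
  refine ⟨?_, ?_, ?_⟩
  · refine eqv_of_act ((NonAbH1.trivialAction G).prod (AlgGrp.Action.trivial G X)) (aQ.prod aX) _ ?_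
    intro T g p
    rw [hpt p, lift_jm, act, act, AlgGrp.Action.lift_prod_act, AlgGrp.Action.lift_prod_act, AlgGrp.Action.lift_trivial_act]
    have h1 : lift g (p ≫ fst G X) ≫ (NonAbH1.trivialAction G).act = g * (p ≫ fst G X) := rfl
    rw [h1, lift_jm]
    change _ = lift (act aQ g (_ ≫ aQ.orbitMap q₀)) (act aX g (act aX _ _))
    rw [act_orb, act_mul]
  · refine isPullback_of_pts ?_ (fun {T} b c e => ?_) (fun {T} a a' e1 e2 => ?_)
    · -- invariance
      apply AlgGrp.Action.hom_ext_lift₂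
      intro T h b
      rw [hpt b, ← Category.assoc, htw, lift_jm, lift_snd_assoc, lift_jm, ← act_mul, inv_mul_cancel_right]
      congr 1
      have := orb_inv hQ (b ≫ fst G X) (h⁻¹)
      rwa [GrpObj.inv_comp] at this
    · rw [hpt b, hpt c, lift_jm, lift_jm] at e
      have e1 := congrArg (fun x => x ≫ fst _ _) e
      have e2 := congrArg (fun x => x ≫ snd _ _) e
      simp only [lift_fst, lift_snd] at e1 e2
      obtain ⟨h, hh⟩ := exists_h hQ _ _ e1
      refine ⟨lift h c, ?_, lift_snd _ _⟩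
      rw [hpt c, htw]
      refine Eq.trans ?_ (hpt b).symm
      have e3 : h ≫ i = (b ≫ fst G X)⁻¹ * (c ≫ fst G X) := by rw [hh, inv_mul_cancel_left]
      rw [e3]
      congr 1
      · rw [_root_.mul_inv_rev, _root_.inv_inv, mul_inv_cancel_left]
      · rw [act_mul, ← e2, ← act_mul, inv_mul_cancel, act_one]
    · rw [hpt a, hpt a', ← e2, hpt (a ≫ snd _ _), htw, htw] at e1
      have e3 := congrArg (fun x => x ≫ fst _ _) e1
      simp only [lift_fst] at e3
      have e4 := i_cancel hQ _ _ (inv_injective (mul_left_cancel e3))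
      rw [hpt a, hpt a', e4, e2]
  · refine K744.QuotFib.isLocallyTrivialFor_of_isPullback (p := fst G X) (f := fst Q X) (π := aQ.orbitMap q₀) ?_ hQ.2.2
    refine isPullback_of_pts (by rw [jm, lift_fst]) (fun {T} b c e => ?_) (fun {T} a a' e1 e2 => ?_)
    · refine ⟨lift b (act aX b⁻¹ (c ≫ snd _ _)), lift_fst _ _, ?_⟩
      rw [lift_jm, e, ← act_mul, mul_inv_cancel, act_one, ← hpt]
    · rw [hpt a, hpt a', lift_jm, lift_jm] at e2
      have e3 := congrArg (fun x => x ≫ snd _ _) e2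
      simp only [lift_snd] at e3
      rw [hpt a, hpt a', ← e1]
      congr 1
      rw [← e1] at e3
      have e4 := congrArg (fun x => act aX (a ≫ fst _ _)⁻¹ x) e3
      simp only [← act_mul, inv_mul_cancel, act_one] at e4
      exact e4

/-- `[X/H] ≃ [G/H × X / G]` -/
theorem isQuotientOf_of_isHomog [K.HasIsos] [K.IsStableUnderBaseChange]
    [K.IsStableUnderComposition] (hK : K ≤ Scheme.fpqcPrecoverage) [IsAffineHom G.hom]
    (hQ : ChGrp.IsHomog K i aQ q₀) :
    AlgSt.IsQuotientOf K H (aX.restrict i) (AlgSt.QuotSt K G (aQ.prod aX)) :=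
  isQuotientOf_of_isBalProd hK (isBalProd aX hQ)

end K824.Homog
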